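import Cfsg.Agent.TAB.B.Geo.TrQ

/-!
# The double count on the points of an involution of type 2D (helper62, TAB)
-/

set_option autoImplicit false
set_option maxHeartbeats 400000
set_option linter.unusedSectionVars false

namespace Cfsg.Agent.TAB.B.DG

open Cfsg Cfsg.Agent.TAB.B.Geo

/-- the number of the points of `g ^ m` fixed by `g` -/
noncomputable def fx (m : ℕ) (g : BG) : ℕ := Nat.card {y : BG // XU (g ^ m) y ∧ g * y = y * g}

theorem fx_conj_le (m : ℕ) (g k : BG) : fx m g ≤ fx m (k * g * k⁻¹) := by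
  refine Nat.card_le_card_of_injective (fun y => ⟨k * y.1 * k⁻¹, by rw [conj_pow]; exact y.2.1.conj k, ?_⟩)
    fun y y' e => Subtype.ext (mul_left_cancel (mul_right_cancel (congrArg Subtype.val e)))
  calc k * g * k⁻¹ * (k * y.1 * k⁻¹) = k * (g * y.1) * k⁻¹ := by group
    _ = k * y.1 * k⁻¹ * (k * g * k⁻¹) := by rw [y.2.2]; group

theorem fx_conj (m : ℕ) (g k : BG) : fx m (k * g * k⁻¹) = fx m g := by
  refine le_antisymm ?_ (fx_conj_le m g k)
  have h := fx_conj_le m (k * g * k⁻¹) k⁻¹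
  rwa [show k⁻¹ * (k * g * k⁻¹) * k⁻¹⁻¹ = g by group] at h

/-- **The double count.** -/
theorem dcount (T : BG → Prop) (hT : ∀ g k, T g → T (k * g * k⁻¹)) (m w : ℕ) :
    11707448673375 * Nat.card {g : BG // g * zB = zB * g ∧ T g ∧ InQ (g ^ m) ∧ fx m g ≤ w} ≤
      w * Nat.card {g : BG // T g} := by
  classical
  choose h hh using fun y : {y : BG // IsConj zB y} => isConj_iff.1 y.2
  have h1 := Nat.card_le_card_of_injective
    (fun p : {y : BG // IsConj zB y} × {g : BG // g * zB = zB * g ∧ T g ∧ InQ (g ^ m) ∧ fx m g ≤ w} =>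
      (⟨⟨h p.1 * p.2 * (h p.1)⁻¹, hT _ _ p.2.2.2.1, by rw [fx_conj]; exact p.2.2.2.2.2⟩, p.1,
        ⟨h p.1, hh p.1, by
          rw [conj_pow, show (h p.1)⁻¹ * (h p.1 * p.2.1 ^ m * (h p.1)⁻¹) * h p.1 = p.2.1 ^ m by group]
          exact p.2.2.2.2.1⟩, by
        calc h p.1 * p.2 * (h p.1)⁻¹ * p.1 = h p.1 * (p.2 * zB) * (h p.1)⁻¹ := by rw [← hh p.1]; group
          _ = p.1 * (h p.1 * p.2 * (h p.1)⁻¹) := by rw [p.2.2.1, ← hh p.1]; group⟩ :
        (g : {g : BG // T g ∧ fx m g ≤ w}) × {y : BG // XU (g.1 ^ m) y ∧ g.1 * y = y * g.1})) fun p p' e => by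
    have e1 : h p.1 * p.2 * (h p.1)⁻¹ = h p'.1 * p'.2 * (h p'.1)⁻¹ :=
      congrArg (fun q : (g : {g : BG // T g ∧ fx m g ≤ w}) × {y : BG // XU (g.1 ^ m) y ∧ g.1 * y = y * g.1} => q.1.1) e
    have e2 : p.1 = p'.1 := Subtype.ext
      (congrArg (fun q : (g : {g : BG // T g ∧ fx m g ≤ w}) × {y : BG // XU (g.1 ^ m) y ∧ g.1 * y = y * g.1} => q.2.1) e)
    rw [e2] at e1
    exact Prod.ext e2 (Subtype.ext (mul_left_cancel (mul_right_cancel e1)))
  let _ : Fintype {g : BG // T g ∧ fx m g ≤ w} := Fintype.ofFinite _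
  rw [Nat.card_prod, card_class_zB, Nat.card_sigma] at h1
  have h2 := Finset.sum_le_card_nsmul (Finset.univ : Finset {g : BG // T g ∧ fx m g ≤ w})
    (fun g => Nat.card {y : BG // XU (g.1 ^ m) y ∧ g.1 * y = y * g.1}) w fun g _ => g.2.2
  rw [Finset.card_univ, ← Nat.card_eq_fintype_card, smul_eq_mul, mul_comm] at h2
  refine h1.trans (h2.trans (Nat.mul_le_mul_left _ ?_))
  exact Nat.card_le_card_of_injective (fun g => (⟨g.1, g.2.1⟩ : {g : BG // T g})) fun g g' e =>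
    Subtype.ext (congrArg (fun q : {g : BG // T g} => q.1) e)

/-- the box from the count in `C(zB)` -/
theorem box_of {i m w n : ℕ} (hw : 0 < w) (h : dat.cnt i * w ≤ 11707448673375 * n)
    (hn : n ≤ Nat.card {g : BG // g * zB = zB * g ∧ TyB i g ∧ InQ (g ^ m) ∧ fx m g ≤ w}) : BoxB i := by
  have h1 := dcount (TyB i) (fun g k hg => hg.conj k) m w
  have h2 := h.trans ((Nat.mul_le_mul_left _ hn).trans h1)
  rw [mul_comm w] at h2
  exact Nat.le_of_mul_le_mul_right h2 hw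

end Cfsg.Agent.TAB.B.DG
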